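import Groth.Agent.Lib.SetColim18.Site
import Groth.Agent.Lib.EtColim.SmallSite

/-!
# Sections of étale sheaves of sets over qcqs objects commute with filtered colimits
-/

set_option autoImplicit false
set_option backward.isDefEq.respectTransparency false

universe u

open CategoryTheory CategoryTheory.Limits AlgebraicGeometry Opposite

namespace GrothLib.SetColim18

open GrothLib.EtColim

variable {X : Scheme.{u}}

theorem finCovers_S : FinCovers (JS X) (B X) := by
  intro U hU T hT
  obtain ⟨ι, Y, ⟨hfin, -, hY, hcov⟩, hT'⟩ := cov_h2 U hU T hT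
  exact ⟨ι, hfin, Y, hcov, hT', fun a b =>
    ⟨pullback (Y a).hom (Y b).hom, mem_B_of_isPullback (IsPullback.of_hasPullback _ _) (hY a) (hY b) hU,
      _, _, IsPullback.of_hasPullback _ _⟩⟩

/-- Transport of sheaves of sets to the small model. -/
noncomputable abbrev ET (X : Scheme.{u}) :
    Sheaf X.smallEtaleTopology (Type (u + 1)) ≌ Sheaf (JS X) (Type (u + 1)) :=
  (eS X).sheafCongr X.smallEtaleTopology (JS X) (Type (u + 1))

theorem preservesColimitsOfShape_sections (U : X.Etale) [CompactSpace U.left] [QuasiSeparatedSpace U.left]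
    (I : Type (u + 1)) [SmallCategory I] [IsFiltered I] :
    PreservesColimitsOfShape I
      (sheafToPresheaf X.smallEtaleTopology (Type (u + 1)) ⋙
        (evaluation X.Etaleᵒᵖ (Type (u + 1))).obj (op U)) := by
  let V : S X := ULiftHom.up.obj U
  have hV : V ∈ B X := ⟨inferInstanceAs (CompactSpace U.left), inferInstanceAs (QuasiSeparatedSpace U.left)⟩
  have : PreservesColimitsOfShape I
      (sheafToPresheaf (JS X) (Type (u + 1)) ⋙ (evaluation (S X)ᵒᵖ (Type (u + 1))).obj (op V)) :=
    ⟨fun {F} => preservesColimit_sections finCovers_S F hV⟩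
  let e : (ET X).functor ⋙ sheafToPresheaf (JS X) (Type (u + 1)) ⋙
      (evaluation (S X)ᵒᵖ (Type (u + 1))).obj (op V) ≅
      sheafToPresheaf X.smallEtaleTopology (Type (u + 1)) ⋙
        (evaluation X.Etaleᵒᵖ (Type (u + 1))).obj (op U) :=
    NatIso.ofComponents (fun F => Iso.refl _) (fun f => by ext x; rfl)
  exact preservesColimitsOfShape_of_natIso e

end GrothLib.SetColim18
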