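import Mathlib.CategoryTheory.Sites.Limits
import Mathlib.CategoryTheory.Sites.LocallyBijective
import Mathlib.CategoryTheory.Limits.Types.Filtered
import Mathlib.CategoryTheory.Limits.ConcreteCategory.Filtered
import Mathlib.CategoryTheory.Limits.FullSubcategory

/-!
# Sections of sheaves of sets over objects with finite covers commute with filtered colimits
-/

universe u

open CategoryTheory Limits Opposite

namespace GrothLib.SetColim18

variable {C : Type u} [SmallCategory C] {I : Type u} [SmallCategory I] [IsFiltered I]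

section Pre

variable {G : I ⥤ Cᵒᵖ ⥤ Type u} (e : Cocone G)

/-- Every section of the apex over `V` comes from a stage. -/
def GenAt (V : C) : Prop :=
  ∀ t : e.pt.obj (op V), ∃ (i : I) (x : (G.obj i).obj (op V)), (e.ι.app i).app (op V) x = t

/-- Sections of one stage equal in the apex agree at a stage. -/
def SepAt (V : C) : Prop :=
  ∀ (i : I) (x y : (G.obj i).obj (op V)), (e.ι.app i).app (op V) x = (e.ι.app i).app (op V) y →
    ∃ (j : I) (f : i ⟶ j), (G.map f).app (op V) x = (G.map f).app (op V) y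

lemma map_apply {i j k : I} (f : i ⟶ j) (g : j ⟶ k) (V : C) (x : (G.obj i).obj (op V)) :
    (G.map g).app (op V) ((G.map f).app (op V) x) = (G.map (f ≫ g)).app (op V) x := by
  rw [G.map_comp]
  rfl

lemma ι_map_apply {i j : I} (f : i ⟶ j) (V : C) (x : (G.obj i).obj (op V)) :
    (e.ι.app j).app (op V) ((G.map f).app (op V) x) = (e.ι.app i).app (op V) x :=
  ConcreteCategory.congr_hom (NatTrans.congr_app (e.w f) (op V)) x

lemma res_ι_apply {i : I} {V W : C} (g : W ⟶ V) (x : (G.obj i).obj (op V)) :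
    e.pt.map g.op ((e.ι.app i).app (op V) x) = (e.ι.app i).app (op W) ((G.obj i).map g.op x) :=
  (ConcreteCategory.congr_hom ((e.ι.app i).naturality g.op) x).symm

lemma res_map_apply {i j : I} (f : i ⟶ j) {V W : C} (g : W ⟶ V) (x : (G.obj i).obj (op V)) :
    (G.obj j).map g.op ((G.map f).app (op V) x) = (G.map f).app (op W) ((G.obj i).map g.op x) :=
  (ConcreteCategory.congr_hom ((G.map f).naturality g.op) x).symm

theorem sep_finite {κ : Type u} [Finite κ] (V : κ → C) (hV : ∀ k, SepAt e (V k)) (i : I)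
    (x y : ∀ k, (G.obj i).obj (op (V k)))
    (hxy : ∀ k, (e.ι.app i).app (op (V k)) (x k) = (e.ι.app i).app (op (V k)) (y k)) :
    ∃ (j : I) (f : i ⟶ j), ∀ k, (G.map f).app (op (V k)) (x k) = (G.map f).app (op (V k)) (y k) := by
  classical
  have := Fintype.ofFinite κ
  suffices h : ∀ s : Finset κ, ∃ (j : I) (f : i ⟶ j), ∀ k ∈ s,
      (G.map f).app (op (V k)) (x k) = (G.map f).app (op (V k)) (y k) by
    obtain ⟨j, f, hf⟩ := h Finset.univ
    exact ⟨j, f, fun k => hf k (Finset.mem_univ k)⟩
  intro s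
  induction s using Finset.induction with
  | empty => exact ⟨i, 𝟙 i, by simp⟩
  | @insert a s _ ih =>
    obtain ⟨j, f, hf⟩ := ih
    obtain ⟨l, g, hg⟩ := hV a j ((G.map f).app (op (V a)) (x a)) ((G.map f).app (op (V a)) (y a))
      ((ι_map_apply e f (V a) (x a)).trans ((hxy a).trans (ι_map_apply e f (V a) (y a)).symm))
    refine ⟨l, f ≫ g, fun k hk => ?_⟩
    rw [← map_apply, ← map_apply]
    rcases Finset.mem_insert.1 hk with rfl | hk
    · exact hg
    · rw [hf k hk]

theorem gen_finite {κ : Type u} [Finite κ] (V : κ → C) (hV : ∀ k, GenAt e (V k))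
    (t : ∀ k, e.pt.obj (op (V k))) :
    ∃ (j : I) (x : ∀ k, (G.obj j).obj (op (V k))),
      ∀ k, (e.ι.app j).app (op (V k)) (x k) = t k := by
  classical
  have := Fintype.ofFinite κ
  choose i x hx using fun k => hV k (t k)
  obtain ⟨j, hj⟩ := IsFiltered.sup_objs_exists (Finset.univ.image i)
  let f : ∀ k, i k ⟶ j := fun k => (hj (Finset.mem_image_of_mem i (Finset.mem_univ k))).some
  exact ⟨j, fun k => (G.map (f k)).app (op (V k)) (x k),
    fun k => (ι_map_apply e (f k) (V k) (x k)).trans (hx k)⟩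

omit [IsFiltered I] in
theorem genAt_of_isColimit (he : IsColimit e) (V : C) : GenAt e V := fun t =>
  Types.jointly_surjective _ (isColimitOfPreserves ((evaluation _ (Type u)).obj (op V)) he) t

theorem sepAt_of_isColimit (he : IsColimit e) (V : C) : SepAt e V := fun _ x y hxy =>
  (Types.FilteredColimit.isColimit_eq_iff'
    (isColimitOfPreserves ((evaluation _ (Type u)).obj (op V)) he) x y).1 hxy

end Pre

variable {J : GrothendieckTopology C} {B : Set C}

/-- Covers of members of `B` refine to finite ones with overlaps in `B`. -/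
def FinCovers (J : GrothendieckTopology C) (B : Set C) : Prop :=
  ∀ U ∈ B, ∀ T ∈ J U, ∃ (κ : Type u) (_ : Finite κ) (Y : κ → Over U),
    Sieve.ofArrows (fun k => (Y k).left) (fun k => (Y k).hom) ∈ J U ∧ (∀ k, T.arrows (Y k).hom) ∧
      ∀ a b : κ, ∃ (P : C) (_ : P ∈ B) (p : P ⟶ (Y a).left) (q : P ⟶ (Y b).left),
        IsPullback p q (Y a).hom (Y b).hom

variable (h2 : FinCovers J B) (F : I ⥤ Sheaf J (Type u))

/-- A cocone of sheaves as a cocone of presheaves. -/
abbrev preCocone {F : I ⥤ Sheaf J (Type u)} (c : Cocone F) :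
    Cocone (F ⋙ sheafToPresheaf J (Type u)) :=
  (sheafToPresheaf J (Type u)).mapCocone c

omit [IsFiltered I] in
lemma eq_of_locally (H : Sheaf J (Type u)) {U : C} {κ : Type u} (Y : κ → Over U)
    (hY : Sieve.ofArrows (fun i => (Y i).left) (fun i => (Y i).hom) ∈ J U) (s t : H.obj.obj (op U))
    (h : ∀ k, H.obj.map (Y k).hom.op s = H.obj.map (Y k).hom.op t) : s = t := by
  have hH := (isSheaf_iff_isSheaf_of_type J _).1 H.property
  refine (hH _ hY).isSeparatedFor.ext fun V f hf => ?_
  obtain ⟨k, b, rfl⟩ := (Sieve.mem_ofArrows_iff _ _ f).1 hf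
  simp only [op_comp, Functor.map_comp, ConcreteCategory.comp_apply]
  exact congrArg _ (h k)

omit [IsFiltered I] in
lemma exists_glue (H : Sheaf J (Type u)) {U : C} {κ : Type u} (Y : κ → Over U)
    (hY : Sieve.ofArrows (fun i => (Y i).left) (fun i => (Y i).hom) ∈ J U)
    (x : ∀ k, H.obj.obj (op (Y k).left))
    (P : κ → κ → C) (p : ∀ a b, P a b ⟶ (Y a).left) (q : ∀ a b, P a b ⟶ (Y b).left)
    (hP : ∀ a b, IsPullback (p a b) (q a b) (Y a).hom (Y b).hom)
    (hx : ∀ a b, H.obj.map (p a b).op (x a) = H.obj.map (q a b).op (x b)) :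
    ∃ s : H.obj.obj (op U), ∀ k, H.obj.map (Y k).hom.op s = x k := by
  have hH := (isSheaf_iff_isSheaf_of_type J _).1 H.property
  have hF := (Presieve.isSheafFor_iff_generate _).2 (hH _ hY)
  obtain ⟨s, hs, -⟩ := (Presieve.isSheafFor_arrows_iff _ _).1 hF x (fun i j Z gi gj hg => by
    conv_lhs => rw [← (hP i j).lift_fst gi gj hg]
    conv_rhs => rw [← (hP i j).lift_snd gi gj hg]
    simp only [op_comp, Functor.map_comp, ConcreteCategory.comp_apply]
    exact congrArg _ (hx i j))
  exact ⟨s, hs⟩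

variable (E : Cocone (F ⋙ sheafToPresheaf J (Type u))) (hE : IsColimit E)

include h2 hE in
theorem sepAt_sheafify {U : C} (hU : U ∈ B) : SepAt (preCocone (Sheaf.sheafifyCocone E)) U := by
  intro i x y hxy
  have hx' : (toSheafify J E.pt).app (op U) ((E.ι.app i).app (op U) x) =
      (toSheafify J E.pt).app (op U) ((E.ι.app i).app (op U) y) :=
    (ConcreteCategory.congr_hom (NatTrans.congr_app
      (Sheaf.sheafifyCocone_ι_app_val E i) (op U)) x).symm.trans (hxy.trans
    (ConcreteCategory.congr_hom (NatTrans.congr_app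
      (Sheaf.sheafifyCocone_ι_app_val E i) (op U)) y))
  obtain ⟨κ, hfin, Y, hcov, hYT, -⟩ := h2 U hU _
    (Presheaf.equalizerSieve_mem J (toSheafify J E.pt) _ _ hx')
  obtain ⟨j, f, hf⟩ := sep_finite E (fun k => (Y k).left)
    (fun k => sepAt_of_isColimit E hE _) i (fun k => (F.obj i).obj.map (Y k).hom.op x)
    (fun k => (F.obj i).obj.map (Y k).hom.op y)
    (fun k => (res_ι_apply E _ x).symm.trans ((hYT k).trans (res_ι_apply E _ y)))
  refine ⟨j, f, eq_of_locally (F.obj j) Y hcov _ _ fun k => ?_⟩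
  exact (res_map_apply (G := F ⋙ sheafToPresheaf J (Type u)) f _ x).trans
    ((hf k).trans (res_map_apply (G := F ⋙ sheafToPresheaf J (Type u)) f _ y).symm)

include h2 hE in
theorem genAt_sheafify {U : C} (hU : U ∈ B) : GenAt (preCocone (Sheaf.sheafifyCocone E)) U := by
  intro t
  obtain ⟨κ, hfin, Y, hcov, hYT, hpb⟩ := h2 U hU _
    (Presheaf.imageSieve_mem J (toSheafify J E.pt) t)
  choose s hs using hYT
  choose P hPB p q hP using hpb
  obtain ⟨i, x, hx⟩ := gen_finite E (fun k => (Y k).left) (fun k => genAt_of_isColimit E hE _) s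
  let K := preCocone (Sheaf.sheafifyCocone E)
  have hK : ∀ k, (K.ι.app i).app (op (Y k).left) (x k) = K.pt.map (Y k).hom.op t := fun k =>
    (ConcreteCategory.congr_hom (NatTrans.congr_app
      (Sheaf.sheafifyCocone_ι_app_val E i) (op (Y k).left)) (x k)).trans
        ((congrArg ((toSheafify J E.pt).app (op (Y k).left)) (hx k)).trans (hs k))
  have : Finite (κ × κ) := inferInstance
  obtain ⟨j, f, hf⟩ := sep_finite K (fun a : κ × κ => P a.1 a.2)
    (fun a => sepAt_sheafify h2 F E hE (hPB a.1 a.2)) i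
    (fun a => (F.obj i).obj.map (p a.1 a.2).op (x a.1))
    (fun a => (F.obj i).obj.map (q a.1 a.2).op (x a.2)) (fun a => by
      refine (res_ι_apply K (p a.1 a.2) (x a.1)).symm.trans
        (Eq.trans ?_ (res_ι_apply K (q a.1 a.2) (x a.2)))
      rw [hK, hK, ← ConcreteCategory.comp_apply, ← ConcreteCategory.comp_apply, ← Functor.map_comp,
        ← Functor.map_comp, ← op_comp, ← op_comp, (hP a.1 a.2).w])
  obtain ⟨z, hz⟩ := exists_glue (F.obj j) Y hcov
    (fun k => (F.map f).hom.app (op (Y k).left) (x k)) P p q hP (fun a b =>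
      (res_map_apply (G := F ⋙ sheafToPresheaf J (Type u)) f (p a b) (x a)).trans
        ((hf (a, b)).trans (res_map_apply (G := F ⋙ sheafToPresheaf J (Type u)) f (q a b) (x b)).symm))
  refine ⟨j, z, eq_of_locally (Sheaf.sheafifyCocone E).pt Y hcov _ _ fun k => ?_⟩
  refine (res_ι_apply K (Y k).hom z).trans ?_
  refine (congrArg ((K.ι.app j).app _) (hz k)).trans ?_
  exact (ι_map_apply K f _ (x k)).trans (hK k)

include h2 in
/-- Sections over a member of the class commute with filtered colimits. -/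
theorem preservesColimit_sections {U : C} (hU : U ∈ B) :
    PreservesColimit F (sheafToPresheaf J (Type u) ⋙ (evaluation Cᵒᵖ (Type u)).obj (op U)) := by
  refine preservesColimit_of_preserves_colimit_cocone
    (Sheaf.isColimitSheafifyCocone _ (colimit.isColimit (F ⋙ sheafToPresheaf J (Type u)))) ?_
  refine Types.FilteredColimit.isColimitOf _ _ (fun t => ?_) (fun i j x y h => ?_)
  · obtain ⟨i, x, hx⟩ := genAt_sheafify h2 F _ (colimit.isColimit _) hU t
    exact ⟨i, x, hx.symm⟩
  · let K := preCocone (Sheaf.sheafifyCocone (colimit.cocone (F ⋙ sheafToPresheaf J (Type u))))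
    let k := IsFiltered.max i j
    let a : i ⟶ k := IsFiltered.leftToMax i j
    let b : j ⟶ k := IsFiltered.rightToMax i j
    obtain ⟨l, g, hl⟩ := sepAt_sheafify h2 F _ (colimit.isColimit _) hU k
      ((F.map a).hom.app (op U) x) ((F.map b).hom.app (op U) y)
      ((ι_map_apply K a U x).trans (h.trans (ι_map_apply K b U y).symm))
    exact ⟨l, a ≫ g, b ≫ g, ((map_apply (G := F ⋙ sheafToPresheaf J (Type u)) a g U x).symm.trans hl).trans
      (map_apply (G := F ⋙ sheafToPresheaf J (Type u)) b g U y)⟩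

end GrothLib.SetColim18
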